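import Groth.Agent.CanonMod.Supp
import Groth.Agent.DualCx.LocalDuality
import Groth.Agent.LocCohSweep.HLVT
import Groth.Agent.LocCoh.BaseChange

/-!
# `H^0_I(ω) = 0` forces `cd(I) < dim A`
-/

set_option autoImplicit false
set_option linter.style.haveILetI false
set_option linter.unusedSectionVars false
set_option maxRecDepth 4000
universe u

open CategoryTheory IsLocalRing TensorProduct Groth.Agent.DualCx

attribute [local instance] HasDerivedCategory.standard

noncomputable section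

namespace Groth.Agent.CanonMod

variable {A : Type u} [CommRing A] [IsLocalRing A] [IsNoetherianRing A] {ω : Dual.D A}
  (hω : Dual.IsDualizing A ω) (hn : Dual.IsNormalized A ω) (I : Ideal A)

include hω in
theorem exists_kills (h0 : Subsingleton (Dual2.HDI A I ω 0)) (k : ℕ) : ∃ (l : ℕ) (hl : k ≤ l),
    ∀ h : Dual.inD A (A ⧸ I ^ k) ⟶ ω⟦(0 : ℤ)⟧, TorsColim.qD I hl ≫ h = 0 := by
  classical
  haveI : Module.Finite A (Dual.inD A (A ⧸ I ^ k) ⟶ ω⟦(0 : ℤ)⟧) := Normal.finite_E hω (A ⧸ I ^ k) 0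
  obtain ⟨S, hS⟩ := Module.finite_def.mp
    ‹Module.Finite A (Dual.inD A (A ⧸ I ^ k) ⟶ ω⟦(0 : ℤ)⟧)›
  have hex : ∀ h ∈ S, ∃ (m : ℕ) (hm : k ≤ m), TorsColim.qD I hm ≫ h = 0 := fun h _ =>
    (TorsColim.ι_eq_zero_iff I h).mp
      (@Subsingleton.elim (TorsColim.L I (ω⟦(0 : ℤ)⟧)) h0 _ _)
  choose m hm hz using hex
  let l := k + ∑ h ∈ S.attach, m h.1 h.2
  refine ⟨l, Nat.le_add_right _ _, fun h => ?_⟩
  have hh : h ∈ Submodule.span A (S : Set (Dual.inD A (A ⧸ I ^ k) ⟶ ω⟦(0 : ℤ)⟧)) :=
    hS ▸ Submodule.mem_top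
  induction hh using Submodule.span_induction with
  | mem e he =>
    have hle : m e he ≤ l := (Finset.single_le_sum (f := fun h : S => m h.1 h.2)
      (fun _ _ => Nat.zero_le _) (Finset.mem_attach S ⟨e, he⟩)).trans (Nat.le_add_left _ _)
    have hcomp : TorsColim.qD I hle ≫ TorsColim.qD I (hm e he) = TorsColim.qD I (Nat.le_add_right k _) := by
      simp only [TorsColim.qD, ← Functor.map_comp]
      congr 1
      refine ModuleCat.hom_ext (LinearMap.ext fun x => ?_)
      obtain ⟨x, rfl⟩ := Submodule.Quotient.mk_surjective _ x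
      rfl
    rw [← hcomp, Category.assoc, hz, Limits.comp_zero]
  | zero => rw [Limits.comp_zero]
  | add x y _ _ hx hy => rw [Preadditive.comp_add, hx, hy, add_zero]
  | smul c x _ hx => rw [CategoryTheory.Linear.comp_smul, hx, smul_zero]

include hω hn in
/-- maps inducing zero on `Hom(-, ω)` are zero on torsion -/
theorem map_eq_zero_of_torsion {N N' : Type u} [AddCommGroup N] [Module A N] [Module.Finite A N]
    [AddCommGroup N'] [Module A N'] [Module.Finite A N'] (f : N →ₗ[A] N')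
    (hf0 : ∀ h : Dual.inD A N' ⟶ ω⟦(0 : ℤ)⟧,
      (DerivedCategory.singleFunctor (ModuleCat.{u} A) 0).map (ModuleCat.ofHom f) ≫ h = 0)
    {y : N} {j : ℕ} (hy : ∀ a ∈ maximalIdeal A ^ j, a • y = 0) : f y = 0 := by
  obtain ⟨H, _, _, φ, hφ⟩ := InjHull.Basic.exists_isInjectiveHull (R := A) (ResidueField A)
  obtain ⟨θ, hθ⟩ := Trace.exists_trace hω hn hφ
  let F := DerivedCategory.singleFunctor (ModuleCat.{u} A) 0
  let g : (A ⧸ maximalIdeal A ^ j) →ₗ[A] N :=
    Submodule.liftQ (maximalIdeal A ^ j) (LinearMap.toSpanSingleton A N y) fun a ha => by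
      rw [LinearMap.mem_ker, LinearMap.toSpanSingleton_apply]; exact hy a ha
  have hinj : Function.Injective (LocalDuality.Ψ (maximalIdeal A) (ω⟦(0 : ℤ)⟧) θ (Dual.inD A N')) :=
    (LocalDuality.bijective_congr _ _ θ ((shiftFunctorZero (Dual.D A) ℤ).app (Dual.inD A N'))
      (LocalDuality.P_finite θ hω hn hφ hθ N' 0)).1
  have hz : TorsColim.ι (maximalIdeal A) j (Dual.inD A N')
      (F.map (ModuleCat.ofHom g) ≫ F.map (ModuleCat.ofHom f)) = 0 := by
    refine hinj ?_
    rw [map_zero]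
    refine LinearMap.ext fun h => ?_
    rw [LocalDuality.Ψ_apply, TorsColim.map_ι, Category.assoc, LinearMap.zero_apply]
    show θ (TorsColim.ι (maximalIdeal A) j _ (F.map (ModuleCat.ofHom g) ≫ F.map (ModuleCat.ofHom f) ≫ h)) = 0
    rw [hf0 h, Limits.comp_zero, map_zero, map_zero]
  obtain ⟨m, hjm, hm⟩ := (TorsColim.ι_eq_zero_iff _ _).mp hz
  rw [TorsColim.qD, ← Functor.map_comp, ← Functor.map_comp] at hm
  have h1 := F.map_injective (hm.trans (Functor.map_zero F _ _).symm)
  have h2 := LinearMap.congr_fun (congrArg ModuleCat.Hom.hom h1) (Submodule.Quotient.mk 1)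
  have h3 : f ((1 : A) • y) = 0 := h2
  rwa [one_smul] at h3

include hω hn in
theorem one_le_dim_sup (h0 : Subsingleton (Dual2.HDI A I ω 0)) (hI : I ≠ ⊤)
    (P : Ideal (AdicCompletion (maximalIdeal A) A)) [P.IsPrime]
    (hP : P ∈ minimalPrimes (AdicCompletion (maximalIdeal A) A)) :
    1 ≤ ringKrullDim (AdicCompletion (maximalIdeal A) A ⧸
      (I.map (algebraMap A (AdicCompletion (maximalIdeal A) A)) ⊔ P)) := by
  let C := AdicCompletion (maximalIdeal A) A
  haveI : IsNoetherianRing C := RegLoc.Completion.isNoetherianRing_adicCompletion' _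
  have hmap : (maximalIdeal A).map (algebraMap A C) = maximalIdeal C :=
    AdicCompletion.maximalIdeal_eq_map.symm
  set J := I.map (algebraMap A C)
  have hJ : J ≤ maximalIdeal C := (Ideal.map_mono (le_maximalIdeal hI)).trans hmap.le
  have hne : J ⊔ P ≠ ⊤ := fun h => (maximalIdeal.isMaximal C).ne_top
    (top_le_iff.mp (h ▸ sup_le hJ (le_maximalIdeal (Ideal.IsPrime.ne_top inferInstance))))
  obtain ⟨e, he⟩ := LocCohSweep.HLVTConn.exists_dim_eq hne
  rcases Nat.eq_zero_or_pos e with rfl | hpos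
  swap
  · show 1 ≤ ringKrullDim (C ⧸ (J ⊔ P))
    rw [he]; exact_mod_cast hpos
  exfalso
  have hrad : maximalIdeal C ≤ (J ⊔ P).radical :=
    Ideal.le_radical.trans (LocCohSweep.HLVTConn.radical_eq_maximalIdeal_of_dim_zero hne (by simpa using he)).ge
  obtain ⟨-, j₀, hj₀⟩ := (isAssociatedPrime_iff_exists_injective_linearMap _ _).mp
    (Module.associatedPrimes.minimalPrimes_annihilator_subset_associatedPrimes C C (by
      rw [Module.annihilator_eq_bot.mpr inferInstance]; exact hP))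
  set z : C := j₀ (Submodule.Quotient.mk 1)
  have hz : z ≠ 0 := fun h => (Ideal.IsPrime.ne_top ‹P.IsPrime›) ((Ideal.eq_top_iff_one _).mpr
    ((Submodule.Quotient.mk_eq_zero P).mp (hj₀ (h.trans (map_zero j₀).symm))))
  have hPz : ∀ a ∈ P, a * z = 0 := fun a ha => by
    rw [← smul_eq_mul, ← map_smul, ← Submodule.Quotient.mk_smul, smul_eq_mul, mul_one,
      (Submodule.Quotient.mk_eq_zero P).mpr ha, map_zero]
  obtain ⟨k, hk⟩ : ∃ k, z ∉ J ^ k := by
    by_contra hcon
    push Not at hcon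
    refine hz ?_
    have : z ∈ (⨅ k, J ^ k) := Ideal.mem_iInf.mpr hcon
    rwa [Ideal.iInf_pow_eq_bot_of_isLocalRing J (fun h => (maximalIdeal.isMaximal C).ne_top
      (top_le_iff.mp (h ▸ hJ))), Submodule.mem_bot] at this
  obtain ⟨l, hl, hkill⟩ := exists_kills hω I h0 k
  let f : (A ⧸ I ^ l) →ₗ[A] A ⧸ I ^ k := Submodule.mapQ _ _ LinearMap.id (Ideal.pow_le_pow_right hl)
  have hfΓ : f ∘ₗ (DRing.torsionSub (maximalIdeal A) (A ⧸ I ^ l)).subtype = 0 := LinearMap.ext fun y => by
    obtain ⟨j, hj⟩ := y.2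
    exact map_eq_zero_of_torsion hω hn f hkill hj
  set w : C ⊗[A] (A ⧸ I ^ l) := z ⊗ₜ[A] (Submodule.Quotient.mk 1)
  have hw : w ∈ DRing.torsionSub ((maximalIdeal A).map (algebraMap A C)) (C ⊗[A] (A ⧸ I ^ l)) := by
    have hle : maximalIdeal C ≤ (J ^ l ⊔ P).radical := by
      refine hrad.trans ?_
      rw [Ideal.radical_le_radical_iff]
      refine sup_le (fun a ha => ⟨l, Ideal.mem_sup_left (Ideal.pow_mem_pow ha l)⟩)
        (le_sup_right.trans Ideal.le_radical)
    obtain ⟨N, hN⟩ := Ideal.exists_pow_le_of_le_radical_of_fg hle (IsNoetherian.noetherian _)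
    refine ⟨N, fun a ha => ?_⟩
    rw [hmap] at ha
    obtain ⟨b, hb, p, hp, rfl⟩ := Submodule.mem_sup.mp (hN ha)
    rw [add_smul]
    have hb0 : b • w = 0 := by
      rw [show J ^ l = (I ^ l).map (algebraMap A C) from (Ideal.map_pow _ _ _).symm] at hb
      refine Submodule.span_induction (p := fun b _ => b • w = 0) ?_ (zero_smul _ _)
        (fun u v _ _ hu hv => by rw [add_smul, hu, hv, add_zero])
        (fun t u _ hu => by rw [smul_eq_mul, mul_smul, hu, smul_zero]) hb
      rintro _ ⟨a, ha, rfl⟩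
      rw [algebraMap_smul, ← TensorProduct.tmul_smul, ← Submodule.Quotient.mk_smul, smul_eq_mul, mul_one,
        (Submodule.Quotient.mk_eq_zero _).mpr ha, TensorProduct.tmul_zero]
    rw [hb0, zero_add, TensorProduct.smul_tmul', smul_eq_mul, hPz p hp, TensorProduct.zero_tmul]
  rw [LocCoh.torsionSub_tensor] at hw
  obtain ⟨w', hw'⟩ := hw
  have h1 : LinearMap.lTensor C f w = 0 := by
    rw [← hw', ← LinearMap.comp_apply, ← LinearMap.lTensor_comp, hfΓ, LinearMap.lTensor_zero, LinearMap.zero_apply]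
  rw [LinearMap.lTensor_tmul] at h1
  refine hk ?_
  rw [show J ^ k = (I ^ k).map (algebraMap A C) from (Ideal.map_pow _ _ _).symm]
  refine mem_of_tmul_eq_zero (R := A) (B := C) (Q := (I ^ k).map (algebraMap A C))
    (m := f (Submodule.Quotient.mk 1)) (fun r hr => Ideal.mem_map_of_mem _ ?_) h1
  have hr' : (Submodule.Quotient.mk (r • (1 : A)) : A ⧸ I ^ k) = 0 := hr
  rw [Submodule.Quotient.mk_eq_zero, smul_eq_mul, mul_one] at hr'
  exact hr'

include hω hn in
theorem subsingleton_H_of_HDI (h0 : Subsingleton (Dual2.HDI A I ω 0)) (M : Type u) [AddCommGroup M]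
    [Module A M] (i : ℕ) (hi : ringKrullDim A ≤ (i : WithBot ℕ∞)) :
    Subsingleton (LocCoh.H I i M) := by
  obtain ⟨n, hd⟩ := Gor.Basic.exists_natCast_ringKrullDim (A := A)
  have hni : n ≤ i := by rw [hd] at hi; exact_mod_cast hi
  by_cases hI : I = ⊤
  · refine subsingleton_of_forall_eq 0 fun z => ?_
    obtain ⟨k, hk⟩ := LocCoh.isPowerTorsion_H (I := I) (i := i) (ModuleCat.of A M) z
    rw [← one_smul A z]
    exact hk 1 (by rw [hI, Ideal.top_pow]; trivial)
  let C := AdicCompletion (maximalIdeal A) A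
  haveI : IsNoetherianRing C := RegLoc.Completion.isNoetherianRing_adicCompletion' _
  haveI : IsAdicComplete (maximalIdeal C) C :=
    inferInstanceAs (IsAdicComplete (maximalIdeal (AdicCompletion (maximalIdeal A) A))
      (AdicCompletion (maximalIdeal A) A))
  haveI : Module.FaithfullyFlat A C := Module.FaithfullyFlat.of_flat_of_isLocalHom
  have hdC : ringKrullDim C = n := (RegLoc.Completion.ringKrullDim_completion A).trans hd
  have hC : Subsingleton (LocCoh.H (I.map (algebraMap A C)) n C) :=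
    LocCohSweep.HLVT.subsingleton_H_complete C n hdC _ (fun P hP _ => by
      haveI := hP.isPrime
      exact one_le_dim_sup hω hn I h0 hI P hP) C n le_rfl
  obtain ⟨e⟩ := LocCoh.BaseChangeIso.nonempty_H_tensor (B := C) I n (ModuleCat.of A A)
  let e' := e.trans (GrLC.LocCohElt.mapEquiv (I.map (algebraMap A C)) n
    (TensorProduct.AlgebraTensorModule.rid A C C))
  have hA : Subsingleton (LocCoh.H I n A) :=
    haveI : Subsingleton (C ⊗[A] LocCoh.H I n A) := e'.toEquiv.subsingleton
    (Module.FaithfullyFlat.tensorProduct_mk_injective (A := A) (B := C) (LocCoh.H I n A)).subsingleton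
  exact LocCoh.subsingleton_H_ge_dim hd A (fun q _ _ hq => by
    rw [Module.support_of_algebra]; intro x hx; simp_all) hA M i hni

end Groth.Agent.CanonMod
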