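import Groth.Agent.CanonMod.Primes
import Groth.Agent.LocCoh.DepthVanishing

/-!
# Canonical modules of Cohen–Macaulay quotients and regular sequences

A pair `(J, L)` with `Hom(L, E) ≅ H^d_m(R/J)`, `R/J` Cohen–Macaulay of dimension `d`, descends along
regular elements; hence `End L = R/J`.
-/

set_option autoImplicit false
set_option linter.style.haveILetI false
set_option linter.unusedSectionVars false
set_option maxRecDepth 4000
universe u

open IsLocalRing Groth.Agent.GrLC
open scoped Pointwise

noncomputable section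

namespace Groth.Agent.CanonMod

variable {R : Type u} [CommRing R] [IsNoetherianRing R] [IsLocalRing R]
  {E : Type u} [AddCommGroup E] [Module R E]
  {f : ResidueField R →ₗ[R] E} (hf : InjHull.IsInjectiveHull f)

variable (E) in
/-- `R/J` is Cohen–Macaulay of dimension `d` and `L` is a canonical module for it. -/
structure IsPair (J : Ideal R) (L : Type u) [AddCommGroup L] [Module R L] (d : ℕ) : Prop where
  dual : Nonempty ((L →ₗ[R] E) ≃ₗ[R] LocCoh.H (maximalIdeal R) d (R ⧸ J))
  vanish : ∀ j < d, Subsingleton (LocCoh.H (maximalIdeal R) j (R ⧸ J))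
  dim : Module.supportDim R (R ⧸ J) = d

theorem smul_id_range (a : R) (M : Type u) [AddCommGroup M] [Module R M] :
    LinearMap.range (a • LinearMap.id : M →ₗ[R] M) = a • (⊤ : Submodule R M) := by
  ext x
  rw [LinearMap.mem_range, Submodule.mem_smul_pointwise_iff_exists]
  exact ⟨fun ⟨y, hy⟩ => ⟨y, Submodule.mem_top, hy⟩, fun ⟨y, _, hy⟩ => ⟨y, hy⟩⟩

namespace IsPair

variable {J : Ideal R} {L : Type u} [AddCommGroup L] [Module R L] [Module.Finite R L] {d : ℕ}
  (hP : IsPair E J L d)

include hP

theorem nontrivial : Nontrivial (R ⧸ J) :=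
  (Module.supportDim_ne_bot_iff_nontrivial R _).mp (by rw [hP.dim]; exact WithBot.coe_ne_bot)

theorem depth_le : (d : ℕ∞) ≤ LocCoh.depth R (R ⧸ J) := by
  haveI := hP.nontrivial
  by_contra hlt
  obtain ⟨t, ht⟩ := ENat.ne_top_iff_exists.mp (Depth.depth_lt_top (R := R) (M := R ⧸ J)).ne
  rw [← ht, Nat.cast_le, not_le] at hlt
  exact not_subsingleton_iff_nontrivial.mpr (LocCoh.H_of_idealDepth_eq _ t _ ht.symm).2 (hP.vanish t hlt)

theorem exists_regular {d' : ℕ} (hd : d = d' + 1) :
    ∃ a ∈ maximalIdeal R, IsSMulRegular (R ⧸ J) a :=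
  Depth.exists_isSMulRegular_of_one_le_idealDepth
    (le_trans (by exact_mod_cast (show 1 ≤ d by omega)) hP.depth_le)

include hf in
theorem smul_eq_zero {r : R} (hr : r ∈ J) (x : L) : r • x = 0 := by
  refine eq_zero_of_forall hf fun φ => ?_
  obtain ⟨e⟩ := hP.dual
  rw [map_smul, ← LinearMap.smul_apply]
  suffices r • φ = 0 by rw [this, LinearMap.zero_apply]
  refine e.injective ?_
  rw [map_smul, map_zero, ← LocCohElt.map_smul_id]
  have h0 : (r • LinearMap.id : (R ⧸ J) →ₗ[R] R ⧸ J) = 0 := LinearMap.ext fun y => by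
    obtain ⟨y, rfl⟩ := Submodule.Quotient.mk_surjective _ y
    show r • Submodule.Quotient.mk (p := J) y = 0
    rw [← Submodule.Quotient.mk_smul, Submodule.Quotient.mk_eq_zero]
    exact Ideal.mul_mem_right y J hr
  rw [h0]
  exact GrSegre.H_map_zero _ _ _

include hf in
/-- one regular element -/
theorem step {d' : ℕ} (hd : d = d' + 1) {a : R} (ham : a ∈ maximalIdeal R)
    (ha : IsSMulRegular (R ⧸ J) a) :
    IsSMulRegular L a ∧ IsPair E (J ⊔ Ideal.span {a}) (QuotSMulTop a L) d' := by
  subst hd
  haveI : Module.Injective R E := hf.isInjective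
  let J' := J ⊔ Ideal.span {a}
  let g : (R ⧸ J) →ₗ[R] (R ⧸ J') := Submodule.factor (le_sup_left : J ≤ J')
  have hg : Function.Surjective g := Submodule.factor_surjective _
  have hi : Function.Injective (a • LinearMap.id : (R ⧸ J) →ₗ[R] R ⧸ J) := ha
  have hex : Function.Exact (a • LinearMap.id : (R ⧸ J) →ₗ[R] R ⧸ J) g := by
    intro y
    obtain ⟨y, rfl⟩ := Submodule.Quotient.mk_surjective _ y
    constructor
    · intro h0
      change Submodule.Quotient.mk (p := J') y = 0 at h0
      rw [Submodule.Quotient.mk_eq_zero, Submodule.mem_sup] at h0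
      obtain ⟨j, hj, z, hz, rfl⟩ := h0
      obtain ⟨c, rfl⟩ := Ideal.mem_span_singleton'.mp hz
      refine ⟨Submodule.Quotient.mk c, ?_⟩
      show a • Submodule.Quotient.mk (p := J) c = _
      rw [← Submodule.Quotient.mk_smul, Submodule.Quotient.mk_add, (Submodule.Quotient.mk_eq_zero J).mpr hj,
        zero_add, smul_eq_mul, mul_comm]
    · rintro ⟨z, hz⟩
      obtain ⟨z, rfl⟩ := Submodule.Quotient.mk_surjective _ z
      rw [← hz]
      show g (a • Submodule.Quotient.mk (p := J) z) = 0
      rw [map_smul]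
      show a • Submodule.Quotient.mk (p := J') z = 0
      rw [← Submodule.Quotient.mk_smul, Submodule.Quotient.mk_eq_zero]
      exact Submodule.mem_sup_right (Ideal.mem_span_singleton'.mpr ⟨z, by rw [smul_eq_mul, mul_comm]⟩)
  haveI := hP.nontrivial
  have hdim : Module.supportDim R (R ⧸ J') = (d' : WithBot ℕ∞) := by
    have hker : a • (⊤ : Submodule R (R ⧸ J)) = LinearMap.ker g := by
      rw [← smul_id_range, hex.linearMap_ker_eq]
    let e : QuotSMulTop a (R ⧸ J) ≃ₗ[R] (R ⧸ J') :=
      (Submodule.quotEquivOfEq _ _ hker).trans (g.quotKerEquivOfSurjective hg)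
    rw [← Module.supportDim_eq_of_equiv e]
    have h1 := Module.supportDim_quotSMulTop_succ_eq_supportDim_mem_jacobson ha
      (IsLocalRing.maximalIdeal_le_jacobson _ ham)
    rw [hP.dim, Nat.cast_succ] at h1
    generalize Module.supportDim R (QuotSMulTop a (R ⧸ J)) = s at h1 ⊢
    induction s using WithBot.recBotCoe with
    | bot => exact absurd h1.symm (by rw [WithBot.bot_add]; exact WithBot.coe_ne_bot)
    | coe c =>
      induction c using ENat.recTopCoe with
      | top =>
        have : (⊤ : ℕ∞) + 1 = ((d' + 1 : ℕ) : ℕ∞) := by exact_mod_cast h1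
        exact absurd this.symm (by rw [top_add]; exact ENat.coe_ne_top _)
      | coe c => exact_mod_cast (show (c : ℕ) = d' by
          have : c + 1 = d' + 1 := by exact_mod_cast h1
          omega)
  have hvan : ∀ j < d', Subsingleton (LocCoh.H (maximalIdeal R) j (R ⧸ J')) := fun j hj =>
    subsingleton_of_forall_eq 0 fun y => by
      obtain ⟨z, rfl⟩ := (LocCohElt.exact_map_δ (maximalIdeal R) j hi hex hg y).mp
        ((hP.vanish (j + 1) (by omega)).elim _ _)
      rw [(hP.vanish j (by omega)).elim z 0, map_zero]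
  obtain ⟨e⟩ := hP.dual
  have hsurj : ∀ φ : L →ₗ[R] E, ∃ ψ : L →ₗ[R] E, a • ψ = φ := fun φ => by
    have h0 : Subsingleton (LocCoh.H (maximalIdeal R) (d' + 1) (R ⧸ J')) :=
      LocCoh.SupportDimVanish.subsingleton_H_of_supportDim_lt' _ _ _ (by
        rw [hdim]; exact_mod_cast Nat.lt_succ_self d')
    obtain ⟨z, hz⟩ := (LocCohElt.exact_map_map (maximalIdeal R) (d' + 1) hi hex hg (e φ)).mp
      (h0.elim _ _)
    refine ⟨e.symm z, e.injective ?_⟩
    rw [map_smul, e.apply_symm_apply, ← hz, LocCohElt.map_smul_id]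
  refine ⟨fun x y hxy => sub_eq_zero.mp (eq_zero_of_forall hf fun φ => ?_), ?_, hvan, hdim⟩
  · obtain ⟨ψ, rfl⟩ := hsurj φ
    rw [LinearMap.smul_apply, ← map_smul, smul_sub, sub_eq_zero.mpr hxy, map_zero]
  · let P : (QuotSMulTop a L →ₗ[R] E) →ₗ[R] LocCoh.H (maximalIdeal R) (d' + 1) (R ⧸ J) :=
      e.toLinearMap ∘ₗ LinearMap.lcomp R E (Submodule.mkQ _)
    let D := LocCohElt.δ (maximalIdeal R) d' hi hex hg
    have hD : Function.Injective D := (injective_iff_map_eq_zero _).mpr fun y hy => by
      obtain ⟨z, rfl⟩ := (LocCohElt.exact_map_δ (maximalIdeal R) d' hi hex hg y).mp hy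
      rw [(hP.vanish d' (by omega)).elim z 0, map_zero]
    have hPinj : Function.Injective P := e.injective.comp fun φ ψ h => LinearMap.ext fun y => by
      obtain ⟨x, rfl⟩ := Submodule.mkQ_surjective _ y
      exact LinearMap.congr_fun h x
    have hrange : LinearMap.range P = LinearMap.range D := by
      rw [← (LocCohElt.exact_δ_map (maximalIdeal R) d' hi hex hg).linearMap_ker_eq]
      ext z
      rw [LinearMap.mem_ker, LocCohElt.map_smul_id]
      constructor
      · rintro ⟨φ, rfl⟩
        show a • e (φ ∘ₗ Submodule.mkQ _) = 0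
        rw [← map_smul, e.map_eq_zero_iff]
        refine LinearMap.ext fun x => ?_
        rw [LinearMap.smul_apply, LinearMap.comp_apply, ← map_smul, ← map_smul, Submodule.mkQ_apply,
          (Submodule.Quotient.mk_eq_zero _).mpr (Submodule.smul_mem_pointwise_smul _ _ _ Submodule.mem_top),
          map_zero, LinearMap.zero_apply]
      · intro hz
        have hle : a • (⊤ : Submodule R L) ≤ LinearMap.ker (e.symm z) := fun x hx => by
          obtain ⟨y, -, rfl⟩ := (Submodule.mem_smul_pointwise_iff_exists _ _ _).mp hx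
          rw [LinearMap.mem_ker, map_smul, ← LinearMap.smul_apply, ← map_smul, hz, map_zero,
            LinearMap.zero_apply]
        exact ⟨(a • (⊤ : Submodule R L)).liftQ (e.symm z) hle,
          (congrArg e (Submodule.liftQ_mkQ _ _ hle)).trans (e.apply_symm_apply z)⟩
    exact ⟨(LinearEquiv.ofInjective P hPinj).trans
      ((LinearEquiv.ofEq _ _ hrange).trans (LinearEquiv.ofInjective D hD).symm)⟩

include hf in
/-- a regular element of `L` is regular on `R/J` -/
theorem regular_of_regular {a : R} (ha : IsSMulRegular L a) : IsSMulRegular (R ⧸ J) a := by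
  haveI : Module.Injective R E := hf.isInjective
  obtain ⟨e⟩ := hP.dual
  by_contra hreg
  have hmem : a ∈ {r : R | IsSMulRegular (R ⧸ J) r}ᶜ := hreg
  rw [← biUnion_associatedPrimes_eq_compl_regular] at hmem
  obtain ⟨p, hp, hap⟩ := Set.mem_iUnion₂.mp hmem
  haveI := hp.isPrime
  have hJp : J ≤ p := by
    have h1 := hp.annihilator_le
    rwa [Submodule.annihilator_top, Ideal.annihilator_quotient] at h1
  have hdp : Module.supportDim R (R ⧸ p) = (d : WithBot ℕ∞) := by
    rw [EGA41Lib.supportDim_quotient_ideal]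
    refine le_antisymm ?_ (le_trans (WithBot.coe_le_coe.mpr hP.depth_le) (Depth.depth_le_ringKrullDim_quotient hp))
    exact (dim_quot_mono hJp).trans ((EGA41Lib.supportDim_quotient_ideal J).symm.trans hP.dim).le
  haveI : Nontrivial (R ⧸ p) := Ideal.Quotient.nontrivial_iff.mpr hp.isPrime.ne_top
  obtain ⟨y, hy⟩ := @exists_ne _ (LocCoh.nontrivial_H_supportDim (ModuleCat.of R (R ⧸ p)) d hdp) 0
  let g : (R ⧸ J) →ₗ[R] (R ⧸ p) := Submodule.factor hJp
  have hg : Function.Surjective g := Submodule.factor_surjective _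
  obtain ⟨z, hz⟩ := (LocCohElt.exact_map_δ (maximalIdeal R) d (LinearMap.ker g).injective_subtype
    (LinearMap.exact_subtype_ker_map g) hg y).mp (by
      have : Subsingleton (LocCoh.H (maximalIdeal R) (d + 1) (LinearMap.ker g)) :=
        LocCoh.SupportDimVanish.subsingleton_H_of_supportDim_lt' _ _ _
          ((Module.supportDim_le_of_injective _ (LinearMap.ker g).injective_subtype).trans_lt (by
            rw [hP.dim]; exact_mod_cast Nat.lt_succ_self d))
      exact Subsingleton.elim _ _)
  obtain ⟨ψ, hψ⟩ := Module.Injective.out (R := R) (Q := E) (a • LinearMap.id : L →ₗ[R] L)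
    (show Function.Injective (a • LinearMap.id : L →ₗ[R] L) from ha) (e.symm z)
  refine hy ?_
  rw [← hz, show z = a • e ψ by
    rw [← map_smul, ← e.symm_apply_eq.mp]
    rw [LinearEquiv.symm_apply_eq]
    refine (e.apply_symm_apply z).symm.trans (congrArg e (LinearMap.ext fun x => ?_))
    rw [LinearMap.smul_apply, ← hψ x, ← map_smul]
    rfl, map_smul]
  rw [← LocCohElt.map_smul_id]
  have h0 : (a • LinearMap.id : (R ⧸ p) →ₗ[R] R ⧸ p) = 0 := LinearMap.ext fun w => by
    obtain ⟨w, rfl⟩ := Submodule.Quotient.mk_surjective _ w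
    show a • Submodule.Quotient.mk (p := p) w = 0
    rw [← Submodule.Quotient.mk_smul, Submodule.Quotient.mk_eq_zero]
    exact Ideal.mul_mem_right w p hap
  rw [h0]
  exact GrSegre.H_map_zero _ _ _

end IsPair

include hf in
/-- **`End L = R/J`.** -/
theorem end_eq : ∀ (d : ℕ) (J : Ideal R) (L : Type u) [AddCommGroup L] [Module R L] [Module.Finite R L],
    IsPair E J L d →
      (∀ φ : L →ₗ[R] L, ∃ r : R, φ = r • LinearMap.id) ∧ ∀ r : R, (∀ x : L, r • x = 0) → r ∈ J := by
  intro d
  induction d with
  | zero =>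
    intro J L _ _ _ hP
    obtain ⟨e⟩ := hP.dual
    have ht : LocCoh.IsPowerTorsion (maximalIdeal R) (ModuleCat.of R (R ⧸ J)) :=
      LocCoh.isPowerTorsion_of_supportDim_le_zero _ (by rw [hP.dim]; rfl)
    let h0 : LocCoh.H (maximalIdeal R) 0 (R ⧸ J) ≃ₗ[R] (R ⧸ J) :=
      LocCoh.H0EquivOfTorsion (maximalIdeal R) (ModuleCat.of R (R ⧸ J)) ht
    let w : (L →ₗ[R] E) ≃ₗ[R] (R ⧸ J) := e.trans h0
    refine ⟨fun φ => ?_, fun r hr => ?_⟩
    · obtain ⟨r, hr⟩ := Submodule.Quotient.mk_surjective J (w ((w.symm (Submodule.Quotient.mk 1)) ∘ₗ φ))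
      refine ⟨r, LinearMap.ext fun x => ?_⟩
      have key : ∀ χ : L →ₗ[R] E, χ ∘ₗ φ = r • χ := fun χ => by
        obtain ⟨c, hc⟩ := Submodule.Quotient.mk_surjective J (w χ)
        have hχ : χ = c • w.symm (Submodule.Quotient.mk 1) := w.injective (by
          rw [map_smul, w.apply_symm_apply, ← hc, ← Submodule.Quotient.mk_smul, smul_eq_mul, mul_one])
        have h1 : (w.symm (Submodule.Quotient.mk 1)) ∘ₗ φ = r • w.symm (Submodule.Quotient.mk 1) :=
          w.injective (by
            rw [map_smul, w.apply_symm_apply, ← hr, ← Submodule.Quotient.mk_smul, smul_eq_mul, mul_one])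
        rw [hχ, LinearMap.smul_comp, h1, smul_comm]
      refine sub_eq_zero.mp (eq_zero_of_forall hf fun χ => ?_)
      rw [map_sub, ← LinearMap.comp_apply, key χ, LinearMap.smul_apply]
      simp
    · have h1 : r • w.symm (Submodule.Quotient.mk 1) = 0 := LinearMap.ext fun x => by
        rw [LinearMap.smul_apply, ← map_smul, hr, map_zero, LinearMap.zero_apply]
      have h2 := congrArg w h1
      rwa [map_smul, w.apply_symm_apply, map_zero, ← Submodule.Quotient.mk_smul, smul_eq_mul, mul_one,
        Submodule.Quotient.mk_eq_zero] at h2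
  | succ d ih =>
    intro J L _ _ _ hP
    obtain ⟨a, ham, ha⟩ := hP.exists_regular rfl
    obtain ⟨haL, hP'⟩ := hP.step hf rfl ham ha
    obtain ⟨hend, hann⟩ := ih _ _ hP'
    refine ⟨?_, fun r hr => ?_⟩
    · have hle : (⊤ : Submodule R (L →ₗ[R] L)) ≤
          Submodule.span R {LinearMap.id} ⊔ Ideal.span {a} • ⊤ := by
        intro φ _
        obtain ⟨r, hr⟩ := hend ((a • (⊤ : Submodule R L)).mapQ _ φ fun x hx => by
          obtain ⟨y, -, rfl⟩ := (Submodule.mem_smul_pointwise_iff_exists _ _ _).mp hx
          rw [Submodule.mem_comap, map_smul]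
          exact Submodule.smul_mem_pointwise_smul _ _ _ Submodule.mem_top)
        have hmem : ∀ x : L, ∃ y : L, a • y = φ x - r • x := fun x => by
          have h1 : (Submodule.Quotient.mk (φ x) : QuotSMulTop a L) = r • Submodule.Quotient.mk x :=
            LinearMap.congr_fun hr (Submodule.Quotient.mk x)
          rw [← Submodule.Quotient.mk_smul, Submodule.Quotient.eq] at h1
          obtain ⟨y, -, hy⟩ := (Submodule.mem_smul_pointwise_iff_exists _ _ _).mp h1
          exact ⟨y, hy⟩
        choose y hy using hmem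
        let ψ : L →ₗ[R] L :=
          { toFun := y
            map_add' := fun u v => haL (by
              show a • y (u + v) = a • (y u + y v)
              rw [smul_add, hy, hy, hy, map_add, smul_add]; abel)
            map_smul' := fun c u => haL (by
              show a • y (c • u) = a • (c • y u)
              rw [smul_comm a c, hy, hy, map_smul, smul_sub, smul_comm r c]) }
        refine Submodule.mem_sup.mpr ⟨r • LinearMap.id, Submodule.smul_mem _ _ (Submodule.subset_span rfl),
          a • ψ, Submodule.smul_mem_smul (Ideal.mem_span_singleton_self a) Submodule.mem_top, ?_⟩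
        refine LinearMap.ext fun x => ?_
        show r • x + a • y x = φ x
        rw [hy]; abel
      have htop := Submodule.le_of_le_smul_of_le_jacobson_bot (Module.finite_def.mp inferInstance)
        ((Ideal.span_singleton_le_iff_mem _).mpr (IsLocalRing.maximalIdeal_le_jacobson _ ham)) hle
      intro φ
      obtain ⟨r, hr⟩ := Submodule.mem_span_singleton.mp (htop (Submodule.mem_top (x := φ)))
      exact ⟨r, hr.symm⟩
    · have key : ∀ (k : ℕ) (r : R), (∀ x : L, r • x = 0) → r ∈ J ⊔ Ideal.span {a} ^ k := by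
        intro k
        induction k with
        | zero => intro r _; rw [pow_zero, Ideal.one_eq_top, sup_top_eq]; exact Submodule.mem_top
        | succ k ihk =>
          intro r hr
          obtain ⟨j, hj, z, hz, rfl⟩ := Submodule.mem_sup.mp (hann r fun y => by
            obtain ⟨x, rfl⟩ := Submodule.Quotient.mk_surjective _ y
            rw [← Submodule.Quotient.mk_smul, hr, Submodule.Quotient.mk_zero])
          obtain ⟨s, rfl⟩ := Ideal.mem_span_singleton'.mp hz
          have hs : ∀ x : L, s • x = 0 := fun x => haL (by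
            show a • s • x = a • 0
            have := hr x
            rw [add_smul, hP.smul_eq_zero hf hj, zero_add, mul_comm, mul_smul] at this
            rw [this, smul_zero])
          obtain ⟨j', hj', t, ht, rfl⟩ := Submodule.mem_sup.mp (ihk s hs)
          refine Submodule.mem_sup.mpr ⟨j + j' * a, Submodule.add_mem _ hj (Ideal.mul_mem_right _ _ hj'),
            t * a, ?_, by ring⟩
          rw [pow_succ]
          exact Ideal.mul_mem_mul ht (Ideal.mem_span_singleton_self a)
      rw [← Submodule.Quotient.mk_eq_zero]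
      have hbot := Ideal.iInf_pow_smul_eq_bot_of_isLocalRing (M := R ⧸ J) (Ideal.span {a})
        (fun h => by
          have h1 : (1 : R) ∈ Ideal.span {a} := h ▸ Submodule.mem_top
          exact (IsLocalRing.maximalIdeal.isMaximal R).ne_top
            ((Ideal.eq_top_iff_one _).mpr ((Ideal.span_singleton_le_iff_mem _).mpr ham h1)))
      rw [← Submodule.mem_bot R, ← hbot, Submodule.mem_iInf]
      intro k
      obtain ⟨j, hj, t, ht, rfl⟩ := Submodule.mem_sup.mp (key k r hr)
      rw [Submodule.Quotient.mk_add, (Submodule.Quotient.mk_eq_zero J).mpr hj, zero_add,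
        show (Submodule.Quotient.mk t : R ⧸ J) = t • Submodule.Quotient.mk 1 by
          rw [← Submodule.Quotient.mk_smul, smul_eq_mul, mul_one]]
      exact Submodule.smul_mem_smul ht Submodule.mem_top

/-- `QuotSMulTop` of a list -/
theorem exists_quot_equiv (a : R) (as : List R) (L : Type u) [AddCommGroup L] [Module R L] :
    Nonempty ((L ⧸ Ideal.ofList (a :: as) • (⊤ : Submodule R L)) ≃ₗ[R]
      (QuotSMulTop a L ⧸ Ideal.ofList as • (⊤ : Submodule R (QuotSMulTop a L)))) :=
  ⟨Submodule.quotOfListConsSMulTopEquivQuotSMulTopInner L a as⟩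

include hf in
/-- regular sequences -/
theorem seq : ∀ (as : List R), (∀ a ∈ as, a ∈ maximalIdeal R) → ∀ (J : Ideal R) (L : Type u)
    [AddCommGroup L] [Module R L] [Module.Finite R L] (d : ℕ), IsPair E J L d →
    (RingTheory.Sequence.IsWeaklyRegular (R ⧸ J) as ↔ RingTheory.Sequence.IsWeaklyRegular L as) ∧
      (RingTheory.Sequence.IsWeaklyRegular (R ⧸ J) as →
        as.length ≤ d ∧ IsPair E (J ⊔ Ideal.ofList as) (L ⧸ Ideal.ofList as • (⊤ : Submodule R L)) (d - as.length)) := by
  intro as
  induction as with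
  | nil =>
    intro _ J L _ _ _ d hP
    refine ⟨iff_of_true (RingTheory.Sequence.IsWeaklyRegular.nil R _) (RingTheory.Sequence.IsWeaklyRegular.nil R _),
      fun _ => ⟨Nat.zero_le _, ?_⟩⟩
    have hb : Ideal.ofList ([] : List R) • (⊤ : Submodule R L) = ⊥ := by rw [Ideal.ofList_nil, Submodule.bot_smul]
    let e := Submodule.quotEquivOfEqBot _ hb
    have hJ : J ⊔ Ideal.ofList ([] : List R) = J := by rw [Ideal.ofList_nil, sup_bot_eq]
    rw [hJ, List.length_nil, Nat.sub_zero]
    obtain ⟨w⟩ := hP.dual
    exact ⟨⟨(e.symm.arrowCongr (LinearEquiv.refl R E)).symm.trans w⟩, hP.vanish, hP.dim⟩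
  | cons a as ih =>
    intro hm J L _ _ _ d hP
    have ham : a ∈ maximalIdeal R := hm a (by simp)
    have hm' : ∀ b ∈ as, b ∈ maximalIdeal R := fun b hb => hm b (by simp [hb])
    have hcase : IsSMulRegular (R ⧸ J) a → ∃ d', d = d' + 1 := fun ha => by
      rcases d with - | d'
      · haveI := hP.nontrivial
        exfalso
        have h1 := Module.supportDim_quotSMulTop_succ_eq_supportDim_mem_jacobson ha
          (IsLocalRing.maximalIdeal_le_jacobson _ ham)
        haveI : Nontrivial (QuotSMulTop a (R ⧸ J)) := Submodule.Quotient.nontrivial_iff.mpr (by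
          intro htop
          exact Submodule.top_ne_pointwise_smul_of_mem_jacobson_annihilator
            (IsLocalRing.maximalIdeal_le_jacobson _ ham) htop.symm)
        have h0 := (Module.supportDim_ne_bot_iff_nontrivial R (QuotSMulTop a (R ⧸ J))).mpr inferInstance
        rw [hP.dim] at h1
        generalize Module.supportDim R (QuotSMulTop a (R ⧸ J)) = s at h0 h1
        cases s with
        | bot => exact h0 rfl
        | coe c =>
          have : c + 1 = 0 := by exact_mod_cast h1
          simp at this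
      · exact ⟨d', rfl⟩
    have hcons : ∀ M : Type u, ∀ [AddCommGroup M] [Module R M],
        RingTheory.Sequence.IsWeaklyRegular M (a :: as) ↔
          IsSMulRegular M a ∧ RingTheory.Sequence.IsWeaklyRegular (QuotSMulTop a M) as :=
      fun M _ _ => RingTheory.Sequence.isWeaklyRegular_cons_iff M a as
    have hequiv : IsSMulRegular (R ⧸ J) a →
        Nonempty (QuotSMulTop a (R ⧸ J) ≃ₗ[R] (R ⧸ (J ⊔ Ideal.span {a}))) := fun _ => by
      let g : (R ⧸ J) →ₗ[R] (R ⧸ (J ⊔ Ideal.span {a})) := Submodule.factor le_sup_left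
      have hker : a • (⊤ : Submodule R (R ⧸ J)) = LinearMap.ker g := by
        ext y
        obtain ⟨y, rfl⟩ := Submodule.Quotient.mk_surjective _ y
        rw [LinearMap.mem_ker, Submodule.mem_smul_pointwise_iff_exists]
        show _ ↔ Submodule.Quotient.mk (p := J ⊔ Ideal.span {a}) y = 0
        rw [Submodule.Quotient.mk_eq_zero, Submodule.mem_sup]
        constructor
        · rintro ⟨z, -, hz⟩
          obtain ⟨z, rfl⟩ := Submodule.Quotient.mk_surjective _ z
          rw [← Submodule.Quotient.mk_smul, Submodule.Quotient.eq] at hz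
          exact ⟨-(a • z - y), neg_mem hz, a • z, Ideal.mem_span_singleton'.mpr ⟨z, mul_comm _ _⟩, by abel⟩
        · rintro ⟨j, hj, w, hw, rfl⟩
          obtain ⟨c, rfl⟩ := Ideal.mem_span_singleton'.mp hw
          refine ⟨Submodule.Quotient.mk c, Submodule.mem_top, ?_⟩
          rw [← Submodule.Quotient.mk_smul, Submodule.Quotient.eq, smul_eq_mul]
          convert neg_mem hj using 1; ring
      exact ⟨(Submodule.quotEquivOfEq _ _ hker).trans (g.quotKerEquivOfSurjective (Submodule.factor_surjective _))⟩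
    refine ⟨⟨fun h => ?_, fun h => ?_⟩, fun h => ?_⟩
    · obtain ⟨ha, has⟩ := (hcons _).mp h
      obtain ⟨d', rfl⟩ := hcase ha
      obtain ⟨haL, hP'⟩ := hP.step hf rfl ham ha
      obtain ⟨q⟩ := hequiv ha
      exact (hcons _).mpr ⟨haL, (ih hm' _ _ _ hP').1.mp ((q.isWeaklyRegular_congr as).mp has)⟩
    · obtain ⟨haL, has⟩ := (hcons _).mp h
      have ha := hP.regular_of_regular hf haL
      obtain ⟨d', rfl⟩ := hcase ha
      obtain ⟨-, hP'⟩ := hP.step hf rfl ham ha
      obtain ⟨q⟩ := hequiv ha
      exact (hcons _).mpr ⟨ha, (q.isWeaklyRegular_congr as).mpr ((ih hm' _ _ _ hP').1.mpr has)⟩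
    · obtain ⟨ha, has⟩ := (hcons _).mp h
      obtain ⟨d', rfl⟩ := hcase ha
      obtain ⟨-, hP'⟩ := hP.step hf rfl ham ha
      obtain ⟨q⟩ := hequiv ha
      obtain ⟨hlen, hP''⟩ := (ih hm' _ _ _ hP').2 ((q.isWeaklyRegular_congr as).mp has)
      obtain ⟨w⟩ := exists_quot_equiv a as L
      obtain ⟨v⟩ := hP''.dual
      have hJ : J ⊔ Ideal.ofList (a :: as) = J ⊔ Ideal.span {a} ⊔ Ideal.ofList as := by
        rw [Ideal.ofList_cons, ← sup_assoc]
      rw [hJ, List.length_cons, show d' + 1 - (as.length + 1) = d' - as.length by omega]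
      exact ⟨by omega, ⟨(w.arrowCongr (LinearEquiv.refl R E)).trans v⟩, hP''.vanish, hP''.dim⟩

end Groth.Agent.CanonMod
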