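import Groth.Agent.CanonMod.TopAnn
import Groth.Agent.S17759
import Groth.Agent.S0316
import Groth.Agent.DualCx.Dimfun

/-!
# Matlis duals of local cohomology over complete local rings
-/

set_option autoImplicit false
set_option linter.style.haveILetI false
set_option linter.unusedSectionVars false
set_option maxRecDepth 4000
universe u

open CategoryTheory IsLocalRing Groth.Agent.DualCx Groth.Agent.LocCohSweep

attribute [local instance] HasDerivedCategory.standard

noncomputable section

namespace Groth.Agent.CanonMod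

variable {A : Type u} [CommRing A] [IsNoetherianRing A] [IsLocalRing A]
  [IsAdicComplete (maximalIdeal A) A] {E : Type u} [AddCommGroup E] [Module A E]
  {f : ResidueField A →ₗ[A] E} (hf : InjHull.IsInjectiveHull f)

include hf in
theorem dual_H_spec (M : Type u) [AddCommGroup M] [Module A M] [Module.Finite A M] (i : ℕ) :
    Module.Finite A (LocCoh.H (maximalIdeal A) i M →ₗ[A] E) ∧
      Module.supportDim A (LocCoh.H (maximalIdeal A) i M →ₗ[A] E) ≤ (i : WithBot ℕ∞) := by
  obtain ⟨ω, hω, hnω⟩ := exists_dualizing_of_complete (C := A)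
  obtain ⟨e⟩ := LocalDuality.nonempty_H_equiv hω hnω hf M i
  haveI := Normal.finite_E hω M (-(i : ℤ))
  obtain ⟨s, g, hg⟩ := Module.Finite.exists_fin' A (Devissage.E M ω (-(i : ℤ)))
  let q := g.quotKerEquivOfSurjective hg
  have hb := (S0316.result A E f hf ((Fin s → A) ⧸ LinearMap.ker g)).2
  let w : (LocCoh.H (maximalIdeal A) i M →ₗ[A] E) ≃ₗ[A] Devissage.E M ω (-(i : ℤ)) :=
    (LinearEquiv.congrLeft E A (e.trans (LinearEquiv.congrLeft E A q).symm)).trans
      ((LinearEquiv.ofBijective _ hb).symm.trans q)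
  refine ⟨Module.Finite.equiv w.symm, ?_⟩
  rw [Module.supportDim_eq_of_equiv w]
  refine (Dimfun.supportDim_E_le hω hnω M (-(i : ℤ))).trans ?_
  simp

include hf in
theorem dual_H_top (M : Type u) [AddCommGroup M] [Module A M] [Module.Finite A M] [Nontrivial M]
    (n : ℕ) (hn : Module.supportDim A M = n) :
    Module.supportDim A (LocCoh.H (maximalIdeal A) n M →ₗ[A] E) = n ∧
      associatedPrimes A (LocCoh.H (maximalIdeal A) n M →ₗ[A] E) =
        {p | p ∈ associatedPrimes A M ∧ ringKrullDim (A ⧸ p) = n} := by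
  have key := S17759.result A E f hf (maximalIdeal A) M n hn
  have hassoc : associatedPrimes A (LocCoh.H (maximalIdeal A) n M →ₗ[A] E) =
      {p | p ∈ associatedPrimes A M ∧ ringKrullDim (A ⧸ p) = n} := by
    rw [key]
    ext p
    constructor
    · rintro ⟨hp, hle, hd, -⟩
      refine ⟨Module.associatedPrimes.minimalPrimes_annihilator_subset_associatedPrimes A M
        ⟨⟨hp, hle⟩, fun q hq hqp => ?_⟩, hd⟩
      by_contra hne
      haveI := hq.1
      have h1 := dim_quot_succ_le (p := q) (lt_of_le_of_ne hqp fun h => hne (h ▸ le_rfl))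
      have h2 : ringKrullDim (A ⧸ q) ≤ n :=
        (TopSupport.dim_quotient_le_of_mem (M := M) (p := ⟨q, hq.1⟩)
          (by rw [Module.support_eq_zeroLocus]; exact hq.2)).trans hn.le
      rw [hd] at h1
      have : ((n + 1 : ℕ) : WithBot ℕ∞) ≤ (n : WithBot ℕ∞) := le_trans (le_trans (by push_cast; rfl) h1) h2
      exact absurd (Nat.cast_le.mp this) (by omega)
    · rintro ⟨hp, hd⟩
      exact ⟨hp.isPrime, Depth.annihilator_le_associatedPrime hp, hd, by
        rw [sup_eq_left.mpr (le_maximalIdeal hp.isPrime.ne_top),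
          (maximalIdeal.isMaximal A).isPrime.radical]⟩
  refine ⟨le_antisymm (dual_H_spec hf M n).2 ?_, hassoc⟩
  obtain ⟨p, hp, hpn⟩ : ∃ p ∈ Module.support A M, ringKrullDim (A ⧸ p.asIdeal) = n := by
    by_contra hcon
    push Not at hcon
    exact absurd ((TopSupport.supportDim_lt_iff n).mpr fun p hp =>
      lt_of_le_of_ne ((TopSupport.dim_quotient_le_of_mem hp).trans hn.le) (hcon p hp)) (by rw [hn]; simp)
  have hmem : p.asIdeal ∈ associatedPrimes A (LocCoh.H (maximalIdeal A) n M →ₗ[A] E) := by
    rw [key]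
    exact ⟨p.2, by rw [Module.support_eq_zeroLocus] at hp; exact hp, hpn, by
      rw [sup_eq_left.mpr (le_maximalIdeal p.2.ne_top), (maximalIdeal.isMaximal A).isPrime.radical]⟩
  obtain ⟨-, j, hj⟩ := (isAssociatedPrime_iff_exists_injective_linearMap _ _).mp hmem
  exact (((EGA41Lib.supportDim_quotient_ideal p.asIdeal).trans hpn).symm.le).trans
    (Module.supportDim_le_of_injective j hj)

end Groth.Agent.CanonMod
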