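import Groth.Agent.CanonMod.Seq
import Groth.Prelude.Def_CAlg

/-!
# The pair `(R, K)` for a Cohen–Macaulay local ring with canonical module
-/

set_option autoImplicit false
set_option linter.style.haveILetI false
set_option linter.unusedSectionVars false
set_option maxRecDepth 4000
universe u

open IsLocalRing Groth.Agent.GrLC
open scoped Pointwise

noncomputable section

namespace Groth.Agent.CanonMod

variable {R : Type u} [CommRing R] [LocCoh.IsCohenMacaulayLocalRing R] {n : ℕ}
  (hn : ringKrullDim R = n)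

include hn in
theorem depth_self : LocCoh.depth R R = (n : ℕ∞) := by
  have h := LocCoh.IsCohenMacaulayLocalRing.supportDim_eq_depth (R := R)
  rw [Module.supportDim_self_eq_ringKrullDim, hn] at h
  exact_mod_cast h.symm

include hn in
theorem subsingleton_H_self {j : ℕ} (hj : j < n) : Subsingleton (LocCoh.H (maximalIdeal R) j R) :=
  (LocCoh.H_of_idealDepth_eq (maximalIdeal R) n R (depth_self hn)).1 j hj

variable {E : Type u} [AddCommGroup E] [Module R E] {f : ResidueField R →ₗ[R] E}
  (hf : InjHull.IsInjectiveHull f) {K : Type u} [AddCommGroup K] [Module R K]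
  (eK : (K →ₗ[R] E) ≃ₗ[R] LocCoh.H (maximalIdeal R) n R)

include hn eK in
theorem pair_self : IsPair E (⊥ : Ideal R) K n where
  dual := ⟨eK.trans (LocCohElt.mapEquiv _ n (Submodule.quotEquivOfEqBot ⊥ rfl).symm)⟩
  vanish j hj := by
    haveI := subsingleton_H_self hn hj
    exact (LocCohElt.mapEquiv _ j (Submodule.quotEquivOfEqBot (⊥ : Ideal R) rfl)).toEquiv.subsingleton
  dim := by
    rw [EGA41Lib.supportDim_quotient_ideal]
    exact (ringKrullDim_eq_of_ringEquiv (RingEquiv.quotientBot R)).trans hn

theorem isWeaklyRegular_bot_iff (as : List R) :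
    RingTheory.Sequence.IsWeaklyRegular (R ⧸ (⊥ : Ideal R)) as ↔ RingTheory.Sequence.IsWeaklyRegular R as :=
  (Submodule.quotEquivOfEqBot (⊥ : Ideal R) rfl).isWeaklyRegular_congr as

variable [Module.Finite R K]

include hn hf eK in
theorem regular_iff (as : List R) (has : ∀ a ∈ as, a ∈ maximalIdeal R) :
    (RingTheory.Sequence.IsRegular R as ↔ RingTheory.Sequence.IsRegular K as) ∧
      (RingTheory.Sequence.IsRegular R as → as.length ≤ n ∧
        IsPair E (Ideal.ofList as) (K ⧸ Ideal.ofList as • (⊤ : Submodule R K)) (n - as.length)) := by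
  obtain ⟨hiff, hpair⟩ := seq hf as has ⊥ K n (pair_self hn eK)
  rw [isWeaklyRegular_bot_iff] at hiff hpair
  have hle : Ideal.ofList as ≤ maximalIdeal R := Ideal.span_le.mpr fun a ha => has a ha
  haveI := nontrivial_canonical hn hf eK
  have hne : ∀ (M : Type u) [AddCommGroup M] [Module R M] [Module.Finite R M] [Nontrivial M],
      (⊤ : Submodule R M) ≠ Ideal.ofList as • ⊤ := fun M _ _ _ _ =>
    (Depth.smul_top_ne_top_of_le_maximalIdeal hle).symm
  refine ⟨⟨fun h => ⟨hiff.mp h.1, hne K⟩, fun h => ⟨hiff.mpr h.1, hne R⟩⟩, fun h => ?_⟩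
  have h2 := hpair h.1
  rwa [bot_sup_eq] at h2

end Groth.Agent.CanonMod
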