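import Groth.Agent.EtRamLib.CplNormal
import Groth.Agent.LocCohSweep.HLVT
import Groth.Agent.LocCohSweep.HLVTConn
import Groth.Agent.LocCoh.BaseChangeIso
import Groth.Agent.LocCoh.BaseChange
import Groth.Agent.LocCoh.AffineOfCd
import Groth.Agent.GrLC.LocCohLES

/-!
# `cd(I) < dim A` for excellent normal local rings
-/

set_option autoImplicit false
set_option linter.style.haveILetI false
set_option linter.unusedSectionVars false
universe u

open IsLocalRing TensorProduct

noncomputable section

namespace Groth.Agent.CanonMod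

variable {A : Type u} [CommRing A] [IsDomain A] [IsLocalRing A] [IsNoetherianRing A] [IsIntegrallyClosed A]

theorem subsingleton_H_of_normal (hG : CAlg.IsGRing A) (I : Ideal A)
    (hI : (1 : WithBot ℕ∞) ≤ ringKrullDim (A ⧸ I)) (M : Type u) [AddCommGroup M] [Module A M] (i : ℕ)
    (hi : ringKrullDim A ≤ (i : WithBot ℕ∞)) : Subsingleton (LocCoh.H I i M) := by
  obtain ⟨n, hd⟩ := Gor.Basic.exists_natCast_ringKrullDim (A := A)
  have hni : n ≤ i := by rw [hd] at hi; exact_mod_cast hi
  let C := AdicCompletion (maximalIdeal A) A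
  haveI : IsNoetherianRing C := RegLoc.Completion.isNoetherianRing_adicCompletion' _
  haveI : IsAdicComplete (maximalIdeal C) C :=
    inferInstanceAs (IsAdicComplete (maximalIdeal (AdicCompletion (maximalIdeal A) A))
      (AdicCompletion (maximalIdeal A) A))
  haveI : Module.FaithfullyFlat A C := Module.FaithfullyFlat.of_flat_of_isLocalHom
  haveI : IsDomain C := (EtRamLib.CplNormal.isDomain_isIC_cpl A hG).1
  have hdC : ringKrullDim C = n := (RegLoc.Completion.ringKrullDim_completion A).trans hd
  have hItop : I ≠ ⊤ := by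
    rintro rfl
    haveI : Subsingleton (A ⧸ (⊤ : Ideal A)) := Ideal.Quotient.subsingleton_iff.mpr rfl
    rw [ringKrullDim_eq_bot_of_subsingleton] at hI
    exact absurd hI (by simp)
  have hmap : (maximalIdeal A).map (algebraMap A C) = maximalIdeal C :=
    AdicCompletion.maximalIdeal_eq_map.symm
  set J := I.map (algebraMap A C)
  have hJ : J ≠ ⊤ := fun h => (maximalIdeal.isMaximal C).ne_top
    (top_le_iff.mp (h ▸ (Ideal.map_mono (le_maximalIdeal hItop)).trans hmap.le))
  have hpos : 0 < ringKrullDim (C ⧸ J) := by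
    obtain ⟨e, he⟩ := LocCohSweep.HLVTConn.exists_dim_eq hJ
    rcases Nat.eq_zero_or_pos e with rfl | h
    swap
    · rw [he]; exact_mod_cast h
    exfalso
    have hrad := LocCohSweep.HLVTConn.radical_eq_maximalIdeal_of_dim_zero hJ (by simpa using he)
    have h0 : ringKrullDim (A ⧸ I) ≤ 0 := LocCohSweep.HLVTConn.dim_le_of_forall_prime fun x hx => by
      obtain ⟨P, hP⟩ := PrimeSpectrum.comap_surjective_of_faithfullyFlat (A := A) (B := C) x
      have hP' : P.asIdeal.comap (algebraMap A C) = x.asIdeal := congrArg PrimeSpectrum.asIdeal hP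
      have h1 : J ≤ P.asIdeal := Ideal.map_le_iff_le_comap.mpr (hx.trans hP'.ge)
      have h2 : maximalIdeal C ≤ P.asIdeal := (Ideal.le_radical.trans hrad.ge).trans (P.2.radical_le_iff.mpr h1)
      have h3 : maximalIdeal A ≤ x.asIdeal :=
        (Ideal.map_le_iff_le_comap.mp (hmap.le.trans h2)).trans hP'.le
      rw [← (maximalIdeal.isMaximal A).eq_of_le x.2.ne_top h3,
        ringKrullDim_eq_zero_of_isField ((Ideal.Quotient.maximal_ideal_iff_isField_quotient _).mp
          (maximalIdeal.isMaximal A))]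
    exact absurd (hI.trans h0) (by simp)
  have hC : Subsingleton (LocCoh.H J n C) :=
    LocCohSweep.HLVT.subsingleton_H_domain C n hdC J hpos
  obtain ⟨e⟩ := LocCoh.BaseChangeIso.nonempty_H_tensor (B := C) I n (ModuleCat.of A A)
  let e' := e.trans (GrLC.LocCohElt.mapEquiv J n (TensorProduct.AlgebraTensorModule.rid A C C))
  have hA : Subsingleton (LocCoh.H I n A) :=
    haveI : Subsingleton (C ⊗[A] LocCoh.H I n A) := e'.toEquiv.subsingleton
    (Module.FaithfullyFlat.tensorProduct_mk_injective (A := A) (B := C) (LocCoh.H I n A)).subsingleton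
  exact LocCoh.subsingleton_H_ge_dim hd A (fun q _ _ hq => by
    rw [Module.support_of_algebra]; intro x hx; simp_all) hA M i hni

theorem normal_cd (hA : EGA4.IsExcellent A) (I : Ideal A)
    (hI : (1 : WithBot ℕ∞) ≤ ringKrullDim (A ⧸ I)) :
    (∀ (M : Type u) [AddCommGroup M] [Module A M] (i : ℕ), ringKrullDim A ≤ (i : WithBot ℕ∞) →
      Subsingleton (LocCoh.H I i M)) ∧
      (ringKrullDim A = 2 → AlgebraicGeometry.IsAffine
        (↑(LocCoh.puncturedOpen A I) : AlgebraicGeometry.Scheme.{u})) := by
  refine ⟨fun M _ _ i hi => subsingleton_H_of_normal hA.2.2.1 I hI M i hi, fun h2 => ?_⟩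
  refine LocCoh.isAffineOpen_puncturedOpen fun M _ _ i hi => subsingleton_H_of_normal hA.2.2.1 I hI M i ?_
  rw [h2]
  exact_mod_cast hi

end Groth.Agent.CanonMod
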