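import Groth.Agent.CanonMod.Top
import Groth.Agent.EGA41Lib.Params

/-!
# Associated primes and depth of a canonical module
-/

set_option autoImplicit false
set_option linter.style.haveILetI false
set_option linter.unusedSectionVars false
set_option maxRecDepth 4000
universe u

open scoped Pointwise

open IsLocalRing

noncomputable section

namespace Groth.Agent.CanonMod

variable {R : Type u} [CommRing R]

theorem dim_quot_mono {J P : Ideal R} (h : J ≤ P) : ringKrullDim (R ⧸ P) ≤ ringKrullDim (R ⧸ J) :=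
  ringKrullDim_le_of_surjective (Ideal.Quotient.factor h) (Ideal.Quotient.factor_surjective h)

theorem dim_quot_succ_le {p q : Ideal R} [p.IsPrime] (h : p < q) :
    ringKrullDim (R ⧸ q) + 1 ≤ ringKrullDim (R ⧸ p) := by
  obtain ⟨r, hrq, hrp⟩ := SetLike.exists_of_lt h
  have hr : Ideal.Quotient.mk p r ∈ nonZeroDivisors (R ⧸ p) :=
    mem_nonZeroDivisors_of_ne_zero fun h0 => hrp (Ideal.Quotient.eq_zero_iff_mem.mp h0)
  refine le_trans (add_le_add ?_ le_rfl) (ringKrullDim_quotient_succ_le_of_nonZeroDivisor hr)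
  exact ringKrullDim_le_of_surjective
    (Ideal.Quotient.lift _ (Ideal.Quotient.factor h.le) (fun a ha => by
      obtain ⟨c, rfl⟩ := Ideal.mem_span_singleton'.mp ha
      rw [map_mul, Ideal.Quotient.factor_mk, Ideal.Quotient.eq_zero_iff_mem.mpr hrq, mul_zero]))
    (Ideal.Quotient.lift_surjective_of_surjective _ _ (Ideal.Quotient.factor_surjective h.le))

variable [IsNoetherianRing R] [IsLocalRing R]

variable {n : ℕ}
  (hn : ringKrullDim R = n) {E : Type u} [AddCommGroup E] [Module R E]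
  {f : ResidueField R →ₗ[R] E} (hf : InjHull.IsInjectiveHull f)
  {K : Type u} [AddCommGroup K] [Module R K] [Module.Finite R K]
  (eK : (K →ₗ[R] E) ≃ₗ[R] LocCoh.H (maximalIdeal R) n R)

include hn hf eK

theorem nontrivial_hom_of_eq (J : Ideal R) (hJ : J ≠ ⊤) (hd : ringKrullDim (R ⧸ J) = n) :
    Nontrivial ((R ⧸ J) →ₗ[R] K) := by
  rw [← not_subsingleton_iff_nontrivial, subsingleton_hom_iff hn hf eK, not_subsingleton_iff_nontrivial]
  haveI : Nontrivial (R ⧸ J) := Ideal.Quotient.nontrivial_iff.mpr hJ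
  exact LocCoh.nontrivial_H_supportDim (ModuleCat.of R (R ⧸ J)) n
    ((EGA41Lib.supportDim_quotient_ideal J).trans hd)

theorem subsingleton_hom_of_dim_lt (J : Ideal R) (hd : ringKrullDim (R ⧸ J) < n) :
    Subsingleton ((R ⧸ J) →ₗ[R] K) :=
  subsingleton_hom_of_lt hn hf eK _ ((EGA41Lib.supportDim_quotient_ideal J).trans_lt hd)

theorem nontrivial_canonical : Nontrivial K := by
  by_contra h
  rw [not_nontrivial_iff_subsingleton] at h
  have hd : ringKrullDim (R ⧸ (⊥ : Ideal R)) = n := by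
    rw [← hn]; exact ringKrullDim_eq_of_ringEquiv (RingEquiv.quotientBot R)
  haveI := nontrivial_hom_of_eq hn hf eK ⊥ (by simp) hd
  obtain ⟨φ, hφ⟩ := exists_ne (0 : (R ⧸ (⊥ : Ideal R)) →ₗ[R] K)
  exact hφ (LinearMap.ext fun x => Subsingleton.elim _ _)

theorem associatedPrimes_eq :
    associatedPrimes R K = {p : Ideal R | p.IsPrime ∧ ringKrullDim (R ⧸ p) = n} := by
  have key : ∀ q ∈ associatedPrimes R K, ringKrullDim (R ⧸ q) = n := fun q hq => by
    obtain ⟨hqp, j, hj⟩ := (isAssociatedPrime_iff_exists_injective_linearMap _ _).mp hq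
    haveI := hqp
    refine le_antisymm ((ringKrullDim_quotient_le q).trans hn.le) ?_
    by_contra hlt
    have := subsingleton_hom_of_dim_lt hn hf eK q (not_le.mp hlt)
    have h0 : (1 : R ⧸ q) = 0 := hj (by rw [Subsingleton.elim j 0]; rfl)
    exact hqp.ne_top (Ideal.Quotient.subsingleton_iff.mp (subsingleton_of_zero_eq_one h0.symm))
  ext p
  refine ⟨fun hp => ⟨hp.isPrime, key p hp⟩, fun ⟨hp, hd⟩ => ?_⟩
  haveI := nontrivial_hom_of_eq hn hf eK p hp.ne_top hd
  obtain ⟨φ, hφ⟩ := exists_ne (0 : (R ⧸ p) →ₗ[R] K)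
  have hx : φ (Submodule.Quotient.mk 1) ≠ 0 := fun h0 => hφ (Submodule.linearMap_qext _ (LinearMap.ext_ring h0))
  obtain ⟨q, hq, hle⟩ := exists_le_isAssociatedPrime_of_isNoetherianRing R _ hx
  have hpq : p ≤ q := fun a ha => hle (by
    rw [Submodule.mem_colon_singleton, Submodule.mem_bot, ← map_smul, ← Submodule.Quotient.mk_smul,
      smul_eq_mul, mul_one, (Submodule.Quotient.mk_eq_zero p).mpr ha, map_zero])
  rcases hpq.eq_or_lt with rfl | hlt
  · exact hq
  · exfalso
    have h1 := dim_quot_succ_le hlt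
    rw [key q hq, hd] at h1
    have : ((n + 1 : ℕ) : WithBot ℕ∞) ≤ (n : WithBot ℕ∞) := by exact_mod_cast h1
    exact absurd (Nat.cast_le.mp this) (by omega)

/-- an element outside all primes of full dimension is regular on `K` -/
theorem isSMulRegular_of_forall (a : R)
    (ha : ∀ p : Ideal R, p.IsPrime → ringKrullDim (R ⧸ p) = n → a ∉ p) : IsSMulRegular K a := by
  by_contra hreg
  have hmem : a ∈ {r : R | IsSMulRegular K r}ᶜ := hreg
  rw [← biUnion_associatedPrimes_eq_compl_regular] at hmem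
  obtain ⟨p, hp, hap⟩ := Set.mem_iUnion₂.mp hmem
  rw [associatedPrimes_eq hn hf eK] at hp
  exact ha p hp.1 hp.2 hap

theorem exists_regular_mem (q : Ideal R) (hq : ringKrullDim (R ⧸ q) < n) :
    ∃ a ∈ q, IsSMulRegular K a := by
  refine Depth.exists_isSMulRegular_of_forall_not_le fun p hp hle => ?_
  rw [associatedPrimes_eq hn hf eK] at hp
  exact (hp.2 ▸ dim_quot_mono hle).not_gt hq

/-- `K/aK` has no sections killed by an ideal of coheight `≤ n - 2` -/
theorem mem_smul_top {a : R} (ha : IsSMulRegular K a) (J : Ideal R)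
    (hJ : ringKrullDim (R ⧸ J) + 1 < n) {y : K} (hy : ∀ r ∈ J, r • y ∈ a • (⊤ : Submodule R K)) :
    y ∈ a • (⊤ : Submodule R K) := by
  have hsub : ∀ j, j + 1 = n → Subsingleton (LocCoh.H (maximalIdeal R) j (R ⧸ J)) := fun j hj => by
    refine LocCoh.SupportDimVanish.subsingleton_H_of_supportDim_lt' _ j _ ?_
    rw [EGA41Lib.supportDim_quotient_ideal]
    by_contra hle
    have : (j : WithBot ℕ∞) + 1 ≤ ringKrullDim (R ⧸ J) + 1 := add_le_add (not_lt.mp hle) le_rfl
    refine (this.trans_lt hJ).ne ?_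
    rw [← hj]
    push_cast
    rfl
  have hsurj := surjective_restrict hn hf eK (K := K) (i := J.subtype) (g := J.mkQ)
    Subtype.val_injective J.mkQ_surjective (LinearMap.exact_subtype_mkQ J) hsub
  choose z hz using fun r : J => (Submodule.mem_smul_pointwise_iff_exists _ _ _).mp (hy r.1 r.2)
  let φ : J →ₗ[R] K :=
    { toFun := z
      map_add' := fun r s => ha (by
        show a • z (r + s) = a • (z r + z s)
        rw [smul_add, (hz (r + s)).2, (hz r).2, (hz s).2, Submodule.coe_add, add_smul])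
      map_smul' := fun c r => ha (by
        show a • z (c • r) = a • (c • z r)
        rw [smul_comm a c, (hz (c • r)).2, (hz r).2, Submodule.coe_smul, smul_eq_mul, mul_smul]) }
  obtain ⟨ψ, hψ⟩ := hsurj φ
  have hlt : ringKrullDim (R ⧸ J) < n := by
    refine lt_of_le_of_lt ?_ hJ
    exact le_add_of_nonneg_right (by exact_mod_cast Nat.zero_le 1)
  obtain ⟨b, hbJ, hb⟩ := exists_regular_mem hn hf eK J hlt
  refine (Submodule.mem_smul_pointwise_iff_exists _ _ _).mpr ⟨ψ 1, Submodule.mem_top, hb ?_⟩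
  show b • a • ψ 1 = b • y
  rw [← (hz ⟨b, hbJ⟩).2, smul_comm, ← map_smul, smul_eq_mul, mul_one]
  exact congrArg (a • ·) (LinearMap.congr_fun hψ ⟨b, hbJ⟩)

theorem not_mem_associatedPrimes_quot {a : R} (ha : IsSMulRegular K a) (q : Ideal R)
    (hq : q ∈ associatedPrimes R (QuotSMulTop a K)) : ¬ ringKrullDim (R ⧸ q) + 1 < n := by
  intro hlt
  obtain ⟨hqp, j, hj⟩ := (isAssociatedPrime_iff_exists_injective_linearMap _ _).mp hq
  obtain ⟨y, hy⟩ := Submodule.Quotient.mk_surjective _ (j (Submodule.Quotient.mk 1))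
  have hmem : y ∈ a • (⊤ : Submodule R K) := mem_smul_top hn hf eK ha q hlt fun r hr => by
    rw [← Submodule.Quotient.mk_eq_zero, Submodule.Quotient.mk_smul, hy, ← map_smul,
      ← Submodule.Quotient.mk_smul, smul_eq_mul, mul_one, (Submodule.Quotient.mk_eq_zero q).mpr hr, map_zero]
  refine hqp.ne_top (Ideal.eq_top_iff_one q |>.mpr ?_)
  rw [← Submodule.Quotient.mk_eq_zero]
  refine hj (Eq.trans ?_ (map_zero j).symm)
  rw [← hy]
  exact (Submodule.Quotient.mk_eq_zero _).mpr hmem

end Groth.Agent.CanonMod
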