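import Groth.Agent.GrDual.TopCoh
import Groth.Agent.LocCoh.NonVanishing
import Groth.Agent.LocCoh.SupportDimVanish
import Groth.Agent.InjHull.Matlis
import Groth.Agent.Depth.Local
import Groth.Prelude.Def_Wider
import Mathlib

/-!
# Canonical modules through duality in top degree

If `Hom(K, E) ≅ H^n_m(R)`, `n = dim R`, then `H^n_m(M) ≅ Hom(Hom(M, K), E)` naturally in finite `M`.
This gives the associated primes and the depth properties of `K`.
-/

set_option autoImplicit false
set_option linter.style.haveILetI false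
set_option linter.unusedSectionVars false
set_option maxRecDepth 4000
universe u

open IsLocalRing Groth.Agent.GrLC

noncomputable section

namespace Groth.Agent.CanonMod

variable {R : Type u} [CommRing R] [IsNoetherianRing R] [IsLocalRing R] {n : ℕ}
  (hn : ringKrullDim R = n) {E : Type u} [AddCommGroup E] [Module R E]
  {f : ResidueField R →ₗ[R] E} (hf : InjHull.IsInjectiveHull f)
  {K : Type u} [AddCommGroup K] [Module R K] [Module.Finite R K]
  (eK : (K →ₗ[R] E) ≃ₗ[R] LocCoh.H (maximalIdeal R) n R)

/-- `H^n_m` on maps -/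
abbrev Hn (n : ℕ) {M N : Type u} [AddCommGroup M] [Module R M] [AddCommGroup N] [Module R N]
    (g : M →ₗ[R] N) : LocCoh.H (maximalIdeal R) n M →ₗ[R] LocCoh.H (maximalIdeal R) n N :=
  LocCohElt.map (maximalIdeal R) n g

theorem Hn_toSpanSingleton_sum {M : Type u} [AddCommGroup M] [Module R M] {s : ℕ} (c : Fin s → R)
    (x : Fin s → M) (h : LocCoh.H (maximalIdeal R) n R) :
    Hn n (LinearMap.toSpanSingleton R M (∑ a, c a • x a)) h =
      ∑ a, Hn n (LinearMap.toSpanSingleton R M (x a)) (c a • h) := by
  have he : LinearMap.toSpanSingleton R M (∑ a, c a • x a) =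
      ∑ a, c a • LinearMap.toSpanSingleton R M (x a) := by
    refine LinearMap.ext_ring ?_
    simp
  rw [he, Hn, GrSegre.H_map_sum]
  exact Finset.sum_congr rfl fun a _ => by rw [GrDual.H_map_smul, map_smul]

include hn in
theorem exists_trace : ∃ τ : LocCoh.H (maximalIdeal R) n K →ₗ[R] E,
    ∀ (k : K) (h : LocCoh.H (maximalIdeal R) n R),
      τ (Hn n (LinearMap.toSpanSingleton R K k) h) = eK.symm h k := by
  obtain ⟨s, g, hg⟩ := Module.Finite.exists_fin' R K
  obtain ⟨t, r₀, hr₀⟩ := Module.Finite.exists_fin' R (LinearMap.ker g)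
  let x : Fin s → K := fun a => g (Pi.single a 1)
  have hgx : g = Fintype.linearCombination R x :=
    LinearMap.pi_ext fun a c => by
      rw [Fintype.linearCombination_apply, Finset.sum_eq_single a]
      · rw [Pi.single_eq_same]
        show g _ = c • g _
        rw [← map_smul, ← Pi.single_smul, smul_eq_mul, mul_one]
      · intro b _ hb; rw [Pi.single_eq_of_ne hb, zero_smul]
      · intro ha; exact absurd (Finset.mem_univ a) ha
  let r : Fin t → Fin s → R := fun b => (r₀ (Pi.single b 1)).1
  have hr : Function.Exact (Fintype.linearCombination R r) (Fintype.linearCombination R x) := by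
    have he : Fintype.linearCombination R r = (LinearMap.ker g).subtype ∘ₗ r₀ :=
      LinearMap.pi_ext fun b c => by
        rw [Fintype.linearCombination_apply, Finset.sum_eq_single b]
        · rw [Pi.single_eq_same]
          show c • (r₀ _).1 = (r₀ _).1
          rw [← Submodule.coe_smul, ← map_smul, ← Pi.single_smul, smul_eq_mul, mul_one]
        · intro a _ ha; rw [Pi.single_eq_of_ne ha, zero_smul]
        · intro hb; exact absurd (Finset.mem_univ b) hb
    rw [← hgx, he]
    intro v
    refine ⟨fun hv => ?_, ?_⟩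
    · obtain ⟨w, hw⟩ := hr₀ ⟨v, hv⟩
      exact ⟨w, congrArg Subtype.val hw⟩
    · rintro ⟨w, rfl⟩
      exact (r₀ w).2
  have hx : Function.Surjective (Fintype.linearCombination R x) := hgx ▸ hg
  let p : (Fin s → LocCoh.H (maximalIdeal R) n R) →ₗ[R] LocCoh.H (maximalIdeal R) n K :=
    ∑ a, (Hn n (LinearMap.toSpanSingleton R K (x a))) ∘ₗ LinearMap.proj a
  let q : (Fin s → LocCoh.H (maximalIdeal R) n R) →ₗ[R] E :=
    ∑ a, ((LinearMap.applyₗ (x a)) ∘ₗ eK.symm.toLinearMap) ∘ₗ LinearMap.proj a
  have hp : Function.Surjective p := fun y => by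
    obtain ⟨h, rfl⟩ := GrDual.exists_gens (maximalIdeal R) x hn hx y
    exact ⟨h, by simp only [p, LinearMap.coe_sum, Finset.sum_apply, LinearMap.comp_apply, LinearMap.proj_apply]⟩
  have hpq : LinearMap.ker p ≤ LinearMap.ker q := fun h hh => by
    rw [LinearMap.mem_ker] at hh ⊢
    obtain ⟨h', hh'⟩ := GrDual.exists_relations (maximalIdeal R) x hn hx r hr h
      (by simpa only [p, LinearMap.coe_sum, Finset.sum_apply, LinearMap.comp_apply, LinearMap.proj_apply] using hh)
    have hrel : ∀ b, ∑ a, r b a • x a = 0 := fun b => by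
      have := hr.apply_apply_eq_zero (Pi.single b 1)
      simpa [Fintype.linearCombination_apply, Pi.single_apply] using this
    calc q h = ∑ a, eK.symm (h a) (x a) := by
          simp only [q, LinearMap.coe_sum, Finset.sum_apply, LinearMap.comp_apply, LinearMap.proj_apply]; rfl
      _ = ∑ a, ∑ b, r b a • eK.symm (h' b) (x a) := Finset.sum_congr rfl fun a _ => by
          rw [hh' a, map_sum, LinearMap.sum_apply]
          exact Finset.sum_congr rfl fun b _ => by rw [map_smul, LinearMap.smul_apply]
      _ = ∑ b, eK.symm (h' b) (∑ a, r b a • x a) := by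
          rw [Finset.sum_comm]
          exact Finset.sum_congr rfl fun b _ => by simp only [map_sum, map_smul]
      _ = 0 := by simp [hrel]
  let τ : LocCoh.H (maximalIdeal R) n K →ₗ[R] E :=
    ((LinearMap.ker p).liftQ q hpq) ∘ₗ (p.quotKerEquivOfSurjective hp).symm.toLinearMap
  have hτ : ∀ h, τ (p h) = q h := fun h => by
    have : (p.quotKerEquivOfSurjective hp).symm (p h) = Submodule.Quotient.mk h :=
      (LinearEquiv.symm_apply_eq _).mpr rfl
    simp [τ, this]
  refine ⟨τ, fun k h => ?_⟩
  obtain ⟨c, rfl⟩ := hx k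
  rw [Fintype.linearCombination_apply, Hn_toSpanSingleton_sum]
  have hph : ∑ a, Hn n (LinearMap.toSpanSingleton R K (x a)) (c a • h) = p (fun a => c a • h) := by
    simp only [p, LinearMap.coe_sum, Finset.sum_apply, LinearMap.comp_apply, LinearMap.proj_apply]
  rw [hph, hτ, map_sum]
  simp only [q, LinearMap.coe_sum, Finset.sum_apply, LinearMap.comp_apply, LinearMap.proj_apply]
  refine Finset.sum_congr rfl fun a _ => ?_
  show eK.symm (c a • h) (x a) = _
  rw [map_smul, LinearMap.smul_apply, map_smul]

/-- the trace `H^n_m(K) → E` -/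
def τ : LocCoh.H (maximalIdeal R) n K →ₗ[R] E := (exists_trace hn eK).choose

theorem τ_spec (k : K) (h : LocCoh.H (maximalIdeal R) n R) :
    τ hn eK (Hn n (LinearMap.toSpanSingleton R K k) h) = eK.symm h k :=
  (exists_trace hn eK).choose_spec k h

section Theta

variable (M : Type u) [AddCommGroup M] [Module R M]

/-- `H^n_m(M) → Hom(Hom(M, K), E)` -/
def θ : LocCoh.H (maximalIdeal R) n M →ₗ[R] (M →ₗ[R] K) →ₗ[R] E where
  toFun z :=
    { toFun := fun φ => τ hn eK (Hn n φ z)
      map_add' := fun φ ψ => by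
        rw [← map_add]
        congr 1
        have : φ + ψ = ∑ i : Fin 2, (![φ, ψ] i) := by simp
        rw [this, Hn, GrSegre.H_map_sum]
        simp
      map_smul' := fun r φ => by rw [Hn, GrDual.H_map_smul, map_smul, RingHom.id_apply] }
  map_add' z z' := LinearMap.ext fun φ => by simp
  map_smul' r z := LinearMap.ext fun φ => by simp

theorem θ_apply (z : LocCoh.H (maximalIdeal R) n M) (φ : M →ₗ[R] K) :
    θ hn eK M z φ = τ hn eK (Hn n φ z) := rfl

theorem θ_natural {M N : Type u} [AddCommGroup M] [Module R M] [AddCommGroup N] [Module R N]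
    (g : M →ₗ[R] N) (z : LocCoh.H (maximalIdeal R) n M) (φ : N →ₗ[R] K) :
    θ hn eK N (Hn n g z) φ = θ hn eK M z (φ ∘ₗ g) := by
  rw [θ_apply, θ_apply, Hn, LocCohElt.map_comp]

end Theta

theorem bijective_θ_pow (s : ℕ) : Function.Bijective (θ hn eK (Fin s → R)) := by
  have key : ∀ (z : LocCoh.H (maximalIdeal R) n (Fin s → R)) (φ : (Fin s → R) →ₗ[R] K),
      θ hn eK _ z φ = ∑ a, eK.symm (Hn n (LinearMap.proj a) z) (φ (Pi.single a 1)) := by
    intro z φ
    conv_lhs => rw [GrDual.eq_sum_single (maximalIdeal R) n z, map_sum, LinearMap.sum_apply]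
    refine Finset.sum_congr rfl fun a _ => ?_
    rw [θ_natural, θ_apply, ← τ_spec hn eK]
    have : φ ∘ₗ LinearMap.single R (fun _ : Fin s => R) a = LinearMap.toSpanSingleton R K (φ (Pi.single a 1)) :=
      LinearMap.ext_ring (by simp)
    rw [this]
  constructor
  · refine (injective_iff_map_eq_zero _).mpr fun z hz => ?_
    rw [GrDual.eq_sum_single (maximalIdeal R) n z]
    refine Finset.sum_eq_zero fun a _ => ?_
    suffices Hn n (LinearMap.proj a) z = 0 by
      rw [show LocCohElt.map (maximalIdeal R) n (LinearMap.proj a) z = 0 from this, map_zero]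
    refine eK.symm.injective (LinearMap.ext fun k => ?_)
    have := LinearMap.congr_fun hz ((LinearMap.toSpanSingleton R K k) ∘ₗ LinearMap.proj a)
    rw [key, LinearMap.zero_apply] at this
    rw [map_zero, LinearMap.zero_apply]
    rw [Finset.sum_eq_single a] at this
    · simpa using this
    · intro b _ hb
      simp [Pi.single_eq_of_ne (Ne.symm hb)]
    · intro ha; exact absurd (Finset.mem_univ a) ha
  · intro ψ
    let h : Fin s → LocCoh.H (maximalIdeal R) n R := fun a =>
      eK (ψ ∘ₗ ((LinearMap.llcomp R (Fin s → R) R K).flip (LinearMap.proj a)) ∘ₗ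
        (LinearMap.ringLmapEquivSelf R R K).symm.toLinearMap)
    refine ⟨∑ a, Hn n (LinearMap.single R (fun _ : Fin s => R) a) (h a), LinearMap.ext fun φ => ?_⟩
    rw [map_sum, LinearMap.sum_apply]
    have hφ : φ = ∑ a, (LinearMap.toSpanSingleton R K (φ (Pi.single a 1))) ∘ₗ
        LinearMap.proj (φ := fun _ : Fin s => R) a := by
      refine LinearMap.pi_ext fun a c => ?_
      rw [LinearMap.sum_apply, Finset.sum_eq_single a]
      · simp [← map_smul, ← Pi.single_smul]
      · intro b _ hb; simp [Pi.single_eq_of_ne hb]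
      · intro ha; exact absurd (Finset.mem_univ a) ha
    conv_rhs => rw [hφ, map_sum]
    refine Finset.sum_congr rfl fun a _ => ?_
    rw [θ_natural, θ_apply]
    have : φ ∘ₗ LinearMap.single R (fun _ : Fin s => R) a = LinearMap.toSpanSingleton R K (φ (Pi.single a 1)) :=
      LinearMap.ext_ring (by simp)
    rw [this, τ_spec]
    simp only [h, LinearEquiv.symm_apply_apply, LinearMap.comp_apply]
    exact congrArg ψ (LinearMap.ext fun v => by simp)

include hf in
theorem bijective_θ (M : Type u) [AddCommGroup M] [Module R M] [Module.Finite R M] :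
    Function.Bijective (θ hn eK M) := by
  haveI : Module.Injective R E := hf.isInjective
  obtain ⟨s, g, hg⟩ := Module.Finite.exists_fin' R M
  obtain ⟨t, r₀, hr₀⟩ := Module.Finite.exists_fin' R (LinearMap.ker g)
  let r := (LinearMap.ker g).subtype ∘ₗ r₀
  have hex : Function.Exact r g := by
    intro v
    refine ⟨fun hv => ?_, ?_⟩
    · obtain ⟨w, hw⟩ := hr₀ ⟨v, hv⟩
      exact ⟨w, congrArg Subtype.val hw⟩
    · rintro ⟨w, rfl⟩
      exact (r₀ w).2
  have hinj : Function.Injective (LinearMap.lcomp R K g) := fun φ ψ h =>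
    LinearMap.ext fun y => by
      obtain ⟨x, rfl⟩ := hg y
      exact LinearMap.congr_fun h x
  constructor
  · refine (injective_iff_map_eq_zero _).mpr fun z hz => ?_
    obtain ⟨z₀, rfl⟩ := GrDual.map_surjective_top (maximalIdeal R) hn g hg z
    let T := LinearMap.lcomp R K r
    have hker : LinearMap.ker T ≤ LinearMap.ker (θ hn eK _ z₀) := fun φ hφ => by
      rw [LinearMap.mem_ker] at hφ ⊢
      let φ' : M →ₗ[R] K :=
        (LinearMap.ker g).liftQ φ (fun v hv => by
          obtain ⟨w, rfl⟩ := (hex v).mp hv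
          exact LinearMap.congr_fun hφ w) ∘ₗ (g.quotKerEquivOfSurjective hg).symm.toLinearMap
      have : φ' ∘ₗ g = φ := LinearMap.ext fun v => by
        have hv : (g.quotKerEquivOfSurjective hg).symm (g v) = Submodule.Quotient.mk v :=
          (LinearEquiv.symm_apply_eq _).mpr rfl
        simp [φ', hv]
      rw [← this, ← θ_natural]
      exact LinearMap.congr_fun hz φ'
    let ψ₀ : LinearMap.range T →ₗ[R] E :=
      (LinearMap.ker T).liftQ (θ hn eK _ z₀) hker ∘ₗ T.quotKerEquivRange.symm.toLinearMap
    obtain ⟨ψ, hψ⟩ := Module.Injective.out (R := R) (Q := E) (LinearMap.range T).subtype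
      Subtype.val_injective ψ₀
    obtain ⟨w, hw⟩ := (bijective_θ_pow hn eK t).2 ψ
    have : Hn n r w = z₀ := (bijective_θ_pow hn eK s).1 (LinearMap.ext fun φ => by
      rw [θ_natural, hw]
      have h1 := hψ ⟨T φ, φ, rfl⟩
      have h2 : T.quotKerEquivRange.symm ⟨T φ, φ, rfl⟩ = Submodule.Quotient.mk φ :=
        (LinearEquiv.symm_apply_eq _).mpr (Subtype.ext rfl)
      refine h1.trans ?_
      simp [ψ₀, h2])
    rw [← this, Hn, LocCohElt.map_comp, show g ∘ₗ r = 0 from LinearMap.ext fun v => hex.apply_apply_eq_zero v,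
      GrSegre.H_map_zero]
  · intro ψ
    obtain ⟨ψ', hψ'⟩ := Module.Injective.out (R := R) (Q := E) (LinearMap.lcomp R K g) hinj ψ
    obtain ⟨z₀, hz₀⟩ := (bijective_θ_pow hn eK s).2 ψ'
    exact ⟨Hn n g z₀, LinearMap.ext fun φ => by rw [θ_natural, hz₀]; exact hψ' φ⟩

/-- **Duality in top degree.** -/
def topDual (M : Type u) [AddCommGroup M] [Module R M] [Module.Finite R M] :
    LocCoh.H (maximalIdeal R) n M ≃ₗ[R] ((M →ₗ[R] K) →ₗ[R] E) :=
  LinearEquiv.ofBijective _ (bijective_θ hn hf eK M)

include hf in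
/-- `Hom(-, E)` is faithful -/
theorem eq_zero_of_forall {N : Type u} [AddCommGroup N] [Module R N] {x : N}
    (h : ∀ φ : N →ₗ[R] E, φ x = 0) : x = 0 :=
  InjHull.Matlis.applyₗ_injective hf N (LinearMap.ext fun φ => by simpa using h φ)

include hf in
theorem subsingleton_of_dual {N : Type u} [AddCommGroup N] [Module R N]
    (h : Subsingleton (N →ₗ[R] E)) : Subsingleton N :=
  subsingleton_of_forall_eq 0 fun x => eq_zero_of_forall hf fun φ => by
    rw [Subsingleton.elim φ 0, LinearMap.zero_apply]

include hn hf eK in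
theorem subsingleton_hom_iff (M : Type u) [AddCommGroup M] [Module R M] [Module.Finite R M] :
    Subsingleton (M →ₗ[R] K) ↔ Subsingleton (LocCoh.H (maximalIdeal R) n M) := by
  rw [(topDual hn hf eK M).toEquiv.subsingleton_congr]
  exact ⟨fun h => subsingleton_of_forall_eq 0 fun φ => LinearMap.ext fun x => by
    rw [Subsingleton.elim x 0, map_zero, LinearMap.zero_apply], subsingleton_of_dual hf⟩

include hn hf eK in
theorem subsingleton_hom_of_lt (M : Type u) [AddCommGroup M] [Module R M] [Module.Finite R M]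
    (h : Module.supportDim R M < n) : Subsingleton (M →ₗ[R] K) :=
  (subsingleton_hom_iff hn hf eK M).mpr
    (LocCoh.SupportDimVanish.subsingleton_H_of_supportDim_lt' _ n M h)

include hn hf eK in
/-- restriction of homomorphisms into `K` is surjective when the cokernel has small dimension -/
theorem surjective_restrict {S F N : Type u} [AddCommGroup S] [Module R S] [Module.Finite R S]
    [AddCommGroup F] [Module R F] [Module.Finite R F] [AddCommGroup N] [Module R N]
    {i : S →ₗ[R] F} {g : F →ₗ[R] N} (hi : Function.Injective i) (hg : Function.Surjective g)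
    (hig : Function.Exact i g)
    (hN : ∀ j, j + 1 = n → Subsingleton (LocCoh.H (maximalIdeal R) j N)) :
    Function.Surjective (LinearMap.lcomp R K i) := by
  haveI : Module.Injective R E := hf.isInjective
  have hmap : Function.Injective (Hn n i) := by
    rcases n with - | j
    · exact LocCohElt.map_zero_injective (maximalIdeal R) hi
    · refine (injective_iff_map_eq_zero _).mpr fun z hz => ?_
      obtain ⟨w, rfl⟩ := (LocCohElt.exact_δ_map (maximalIdeal R) j hi hig hg z).mp hz
      rw [(hN j rfl).elim w 0, map_zero]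
  rw [← LinearMap.range_eq_top]
  by_contra hne
  set Q := LinearMap.range (LinearMap.lcomp R K i)
  obtain ⟨φ, -, hφ⟩ := SetLike.exists_of_lt (lt_top_iff_ne_top.mpr hne)
  refine hφ ((Submodule.Quotient.mk_eq_zero Q).mp (eq_zero_of_forall hf fun χ => ?_))
  obtain ⟨z, hz⟩ := (bijective_θ hn hf eK S).2 (χ ∘ₗ Q.mkQ)
  have : Hn n i z = 0 := (bijective_θ hn hf eK F).1 (LinearMap.ext fun ψ => by
    rw [θ_natural, hz, map_zero, LinearMap.zero_apply, LinearMap.comp_apply, Submodule.mkQ_apply]
    have h0 : (Submodule.Quotient.mk (ψ ∘ₗ i) : (S →ₗ[R] K) ⧸ Q) = 0 :=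
      (Submodule.Quotient.mk_eq_zero Q).mpr ⟨ψ, rfl⟩
    rw [h0, map_zero])
  rw [hmap (this.trans (map_zero _).symm), map_zero] at hz
  exact (LinearMap.congr_fun hz φ).symm

end Groth.Agent.CanonMod
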